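import Groth.Agent.HopfLiftLib.Weights
import Groth.Prelude.Def_HopfRep
import Mathlib.RingTheory.HopfAlgebra.Basic
import Mathlib.RingTheory.FiniteType
import Mathlib.LinearAlgebra.Matrix.Determinant.Basic
import Mathlib.Algebra.Module.Projective
import Mathlib.RingTheory.Finiteness.Projective

/-!
# An affine group with the resolution property is linear
-/

set_option autoImplicit false
set_option linter.unusedSectionVars false

noncomputable section

universe u

open scoped TensorProduct

namespace HopfGLLib

variable {R : Type u} [CommRing R] {A : Type u} [CommRing A] [HopfAlgebra R A]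

theorem exists_subcomod [IsNoetherianRing R] [Module.Flat R A] (s : Finset A) :
    ∃ N : Submodule R A, N.FG ∧ (∀ x ∈ s, x ∈ N) ∧
      ∀ x ∈ N, Coalgebra.comul (R := R) x ∈ LinearMap.range (N.subtype.rTensor A) := by
  classical
  induction s using Finset.induction_on with
  | empty => exact ⟨⊥, Submodule.fg_bot, by simp, fun x hx => by
      rw [(Submodule.mem_bot R).1 hx, map_zero]; exact zero_mem _⟩
  | insert a s _ ih =>
    obtain ⟨N, hN, hsN, hc⟩ := ih
    obtain ⟨M, Q, hM, -, haM, hMc⟩ := Groth.Agent.HopfLift.exists_fg_subcomodule (R := R) a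
    refine ⟨N ⊔ M, hN.sup hM, fun x hx => ?_, fun x hx => ?_⟩
    · rcases Finset.mem_insert.1 hx with rfl | hx
      · exact Submodule.mem_sup_right haM
      · exact Submodule.mem_sup_left (hsN x hx)
    · obtain ⟨y, hy, z, hz, rfl⟩ := Submodule.mem_sup.1 hx
      have mono : ∀ {P : Submodule R A}, P ≤ N ⊔ M →
          LinearMap.range (P.subtype.rTensor A) ≤ LinearMap.range ((N ⊔ M).subtype.rTensor A) := by
        intro P hP
        rintro _ ⟨t, rfl⟩
        refine ⟨LinearMap.rTensor A (Submodule.inclusion hP) t, ?_⟩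
        rw [← LinearMap.comp_apply, ← LinearMap.rTensor_comp]
        rfl
      rw [map_add]
      refine add_mem (mono le_sup_left (hc y hy)) (mono le_sup_right ?_)
      obtain ⟨w, hw⟩ := hMc z hz
      exact ⟨Q.subtype.lTensor M w, by rw [← hw, ← LinearMap.comp_apply, LinearMap.rTensor_comp_lTensor]⟩

variable [Module.Flat R A] {N : Submodule R A}
  (hN : ∀ x ∈ N, Coalgebra.comul (R := R) x ∈ LinearMap.range (N.subtype.rTensor A))

theorem inj : Function.Injective (N.subtype.rTensor A) :=
  Module.Flat.rTensor_preserves_injective_linearMap _ N.injective_subtype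

/-- The coaction of a subcomodule of the regular comodule. -/
def subCoact : N →ₗ[R] N ⊗[R] A :=
  (LinearEquiv.ofInjective _ inj).symm.toLinearMap ∘ₗ
    LinearMap.codRestrict _ (Coalgebra.comul.comp N.subtype) fun x => hN x.1 x.2

theorem subCoact_spec (x : N) : N.subtype.rTensor A (subCoact hN x) = Coalgebra.comul (R := R) (x : A) := by
  show N.subtype.rTensor A ((LinearEquiv.ofInjective _ inj).symm _) = _
  rw [← LinearEquiv.ofInjective_apply (f := N.subtype.rTensor A) (h := inj), LinearEquiv.apply_symm_apply]
  rfl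

theorem assoc_natural {M M' : Type u} [AddCommGroup M] [Module R M] [AddCommGroup M'] [Module R M']
    (f : M →ₗ[R] M') (z : (M ⊗[R] A) ⊗[R] A) :
    f.rTensor (A ⊗[R] A) (TensorProduct.assoc R M A A z) =
      TensorProduct.assoc R M' A A ((f.rTensor A).rTensor A z) := by
  induction z using TensorProduct.induction_on with
  | zero => simp
  | add a b ha hb => simp only [map_add, ha, hb]
  | tmul y c =>
    induction y using TensorProduct.induction_on with
    | zero => simp
    | add a b ha hb => simp only [TensorProduct.add_tmul, map_add, ha, hb]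
    | tmul m b => simp

/-- A subcomodule of the regular comodule. -/
@[reducible] def subComod : HopfRep.Comod R A N where
  coact := subCoact hN
  coassoc := by
    refine LinearMap.ext fun x => Module.Flat.rTensor_preserves_injective_linearMap (M := A ⊗[R] A) _
      N.injective_subtype ?_
    show N.subtype.rTensor (A ⊗[R] A) (TensorProduct.assoc R N A A ((subCoact hN).rTensor A (subCoact hN x))) =
      N.subtype.rTensor (A ⊗[R] A) ((Coalgebra.comul (R := R) (A := A)).lTensor N (subCoact hN x))
    have hcd : N.subtype.rTensor A ∘ₗ subCoact hN = (Coalgebra.comul (R := R)).comp N.subtype :=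
      LinearMap.ext (subCoact_spec hN)
    have hl : (N.subtype.rTensor A).rTensor A ((subCoact hN).rTensor A (subCoact hN x)) =
        (Coalgebra.comul (R := R) (A := A)).rTensor A (Coalgebra.comul (R := R) (x : A)) := by
      rw [← LinearMap.rTensor_comp_apply, hcd, LinearMap.rTensor_comp_apply, subCoact_spec]
    have hr : N.subtype.rTensor (A ⊗[R] A) ((Coalgebra.comul (R := R) (A := A)).lTensor N (subCoact hN x)) =
        (Coalgebra.comul (R := R) (A := A)).lTensor A (Coalgebra.comul (R := R) (x : A)) := by
      rw [← LinearMap.comp_apply, LinearMap.rTensor_comp_lTensor, ← LinearMap.lTensor_comp_rTensor,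
        LinearMap.comp_apply, subCoact_spec]
    rw [assoc_natural]
    refine Eq.trans ?_ hr.symm
    rw [hl, Coalgebra.coassoc_apply]
  counit_comp := by
    refine LinearMap.ext fun x => Module.Flat.rTensor_preserves_injective_linearMap (M := R) _
      N.injective_subtype ?_
    show N.subtype.rTensor R ((Coalgebra.counit (R := R) (A := A)).lTensor N (subCoact hN x)) = (x : A) ⊗ₜ[R] 1
    rw [← LinearMap.comp_apply, LinearMap.rTensor_comp_lTensor, ← LinearMap.lTensor_comp_rTensor,
      LinearMap.comp_apply, subCoact_spec, Coalgebra.lTensor_counit_comul]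

section Matrix

variable {E : Type u} [AddCommGroup E] [Module R E] [HopfRep.Comod R A E] {d : ℕ} (φ : Fin d → E →ₗ[R] R)
  (e : Fin d → E) (hφ : ∀ x, ∑ i, φ i x • e i = x)

/-- Pairing of a coordinate with a tensor. -/
def pair (B : Type u) [AddCommGroup B] [Module R B] (f : E →ₗ[R] R) : E ⊗[R] B →ₗ[R] B :=
  (TensorProduct.lid R B).toLinearMap ∘ₗ f.rTensor B

@[simp] theorem pair_tmul (B : Type u) [AddCommGroup B] [Module R B] (f : E →ₗ[R] R) (x : E) (b : B) :
    pair B f (x ⊗ₜ b) = f x • b := rfl

/-- Coefficients of a comodule. -/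
def coef (i j : Fin d) : A := pair A (φ i) (HopfRep.Comod.coact (k := R) (e j))

include hφ in
theorem expand (z : E ⊗[R] A) : z = ∑ i, e i ⊗ₜ[R] pair A (φ i) z := by
  induction z using TensorProduct.induction_on with
  | zero => simp
  | add a b ha hb => simp only [map_add, TensorProduct.tmul_add, Finset.sum_add_distrib, ← ha, ← hb]
  | tmul x b =>
    simp only [pair_tmul, ← TensorProduct.smul_tmul, ← TensorProduct.sum_tmul, hφ]

include hφ in
theorem coact_e (j : Fin d) :
    HopfRep.Comod.coact (k := R) (A := A) (e j) = ∑ i, e i ⊗ₜ[R] coef φ e i j :=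
  expand φ e hφ _

theorem comul_pair (f : E →ₗ[R] R) (z : E ⊗[R] A) :
    Coalgebra.comul (R := R) (pair A f z) = pair (A ⊗[R] A) f ((Coalgebra.comul (R := R) (A := A)).lTensor E z) := by
  induction z using TensorProduct.induction_on with
  | zero => simp
  | add a b ha hb => simp only [map_add, ha, hb]
  | tmul x b => simp

theorem pair_assoc (f : E →ₗ[R] R) (y : E ⊗[R] A) (b : A) :
    pair (A ⊗[R] A) f (TensorProduct.assoc R E A A (y ⊗ₜ b)) = pair A f y ⊗ₜ b := by
  induction y using TensorProduct.induction_on with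
  | zero => simp
  | add a c ha hc => simp only [TensorProduct.add_tmul, map_add, ha, hc]
  | tmul x c => simp [TensorProduct.smul_tmul']

include hφ in
theorem comul_coef (i j : Fin d) :
    Coalgebra.comul (R := R) (coef (A := A) φ e i j) = ∑ l, coef φ e i l ⊗ₜ[R] coef φ e l j := by
  have h := LinearMap.congr_fun (HopfRep.Comod.coassoc (k := R) (A := A) (V := E)) (e j)
  simp only [LinearMap.comp_apply, LinearEquiv.coe_coe] at h
  rw [coef, comul_pair, ← h, coact_e φ e hφ]
  simp only [map_sum, LinearMap.rTensor_tmul, pair_assoc]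
  rfl

theorem counit_coef (i j : Fin d) : Coalgebra.counit (R := R) (coef (A := A) φ e i j) = φ i (e j) := by
  have h := LinearMap.congr_fun (HopfRep.Comod.counit_comp (k := R) (A := A) (V := E)) (e j)
  simp only [LinearMap.comp_apply, LinearMap.flip_apply, TensorProduct.mk_apply] at h
  have key : ∀ z : E ⊗[R] A, Coalgebra.counit (R := R) (pair A (φ i) z) =
      pair R (φ i) ((Coalgebra.counit (R := R) (A := A)).lTensor E z) := fun z => by
    induction z using TensorProduct.induction_on with
    | zero => simp
    | add a b ha hb => simp only [map_add, ha, hb]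
    | tmul x b => simp
  rw [coef, key, h, pair_tmul, smul_eq_mul, mul_one]

include hφ in
theorem phi_comp (i : Fin d) (x : E) : ∑ l, φ i (e l) * φ l x = φ i x := by
  conv_rhs => rw [← hφ x]
  simp [mul_comm]

include hφ in
theorem left_mul (i j : Fin d) : ∑ l, φ i (e l) • coef (A := A) φ e l j = coef φ e i j := by
  conv_rhs => rw [coef, coact_e φ e hφ]
  simp

include hφ in
theorem right_mul (i j : Fin d) : ∑ l, φ l (e j) • coef (A := A) φ e i l = coef φ e i j := by
  conv_rhs => rw [coef, ← hφ (e j)]
  simp [coef]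

end Matrix

theorem main (R : Type u) [CommRing R] [IsNoetherianRing R]
    (A : Type u) [CommRing A] [HopfAlgebra R A] [Module.Flat R A] [Algebra.FiniteType R A]
    (hRE : ∀ (F : Type u) [AddCommGroup F] [Module R F] [HopfRep.Comod R A F] [Module.Finite R F],
      ∃ (E : Type u) (_ : AddCommGroup E) (_ : Module R E) (_ : HopfRep.Comod R A E) (π : E →ₗ[R] F),
        Module.Finite R E ∧ Module.Projective R E ∧ Function.Surjective π ∧
        HopfRep.Comod.coact (k := R) (A := A) ∘ₗ π = π.rTensor A ∘ₗ HopfRep.Comod.coact (k := R) (A := A) (V := E)) :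
    ∃ (d : ℕ) (a : Matrix (Fin d) (Fin d) A),
      (∀ i j, CoalgebraStruct.comul (R := R) (a i j) = ∑ l, a i l ⊗ₜ[R] a l j) ∧
      (∀ i j, CoalgebraStruct.counit (R := R) (a i j) = if i = j then 1 else 0) ∧
      ∃ u : A, u * a.det = 1 ∧ Algebra.adjoin R (Set.range (fun p : Fin d × Fin d => a p.1 p.2) ∪ {u}) = ⊤ := by
  classical
  obtain ⟨s, hs⟩ := (inferInstance : Algebra.FiniteType R A).out
  obtain ⟨N, hNfg, hsN, hN⟩ := exists_subcomod (R := R) s
  haveI : Module.Finite R N := Module.Finite.iff_fg.2 hNfg
  letI := subComod hN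
  obtain ⟨E, _, _, _, π, _, _, hπ, hcomp⟩ := hRE N
  obtain ⟨d, p, ι, -, -, hpι⟩ := Module.Finite.exists_comp_eq_id_of_projective R E
  let e : Fin d → E := fun j => p (Pi.single j 1)
  let φ : Fin d → E →ₗ[R] R := fun i => LinearMap.proj i ∘ₗ ι
  have hφ : ∀ x, ∑ i, φ i x • e i = x := fun x => by
    have h1 : p (ι x) = x := LinearMap.congr_fun hpι x
    conv_rhs => rw [← h1, pi_eq_sum_univ' (ι x), map_sum]
    simp [e, φ]
  let q : Fin d → Fin d → R := fun i j => (if i = j then 1 else 0) - φ i (e j)
  let c : Fin d → Fin d → A := coef φ e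
  have hcq : ∀ i j, ∑ l, q l j • c i l = 0 := fun i j => by
    simp only [q, sub_smul, Finset.sum_sub_distrib, ite_smul, one_smul, zero_smul, Finset.sum_ite_eq',
      Finset.mem_univ, if_true]
    rw [sub_eq_zero]
    exact (right_mul φ e hφ i j).symm
  have hqc : ∀ i j, ∑ l, q i l • c l j = 0 := fun i j => by
    simp only [q, sub_smul, Finset.sum_sub_distrib, ite_smul, one_smul, zero_smul, Finset.sum_ite_eq,
      Finset.mem_univ, if_true]
    rw [sub_eq_zero]
    exact (left_mul φ e hφ i j).symm
  have hqq : ∀ i j, ∑ l, q i l * q l j = q i j := fun i j => by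
    simp only [q, sub_mul, mul_sub, Finset.sum_sub_distrib, ite_mul, one_mul, zero_mul, mul_ite, mul_one,
      mul_zero, Finset.sum_ite_eq, Finset.sum_ite_eq', Finset.mem_univ, if_true, phi_comp φ e hφ]
    ring
  let a : Matrix (Fin d) (Fin d) A := fun i j => c i j + algebraMap R A (q i j)
  have hcomul : ∀ i j, Coalgebra.comul (R := R) (a i j) = ∑ l, a i l ⊗ₜ[R] a l j := by
    intro i j
    have e1 : ∑ l, c i l ⊗ₜ[R] algebraMap R A (q l j) = 0 := by
      simp only [Algebra.algebraMap_eq_smul_one, TensorProduct.tmul_smul, TensorProduct.smul_tmul',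
        ← TensorProduct.sum_tmul, hcq, TensorProduct.zero_tmul]
    have e2 : ∑ l, algebraMap R A (q i l) ⊗ₜ[R] c l j = 0 := by
      simp only [Algebra.algebraMap_eq_smul_one, TensorProduct.smul_tmul, ← TensorProduct.tmul_sum, hqc,
        TensorProduct.tmul_zero]
    have e3 : ∑ l, algebraMap R A (q i l) ⊗ₜ[R] algebraMap R A (q l j) =
        algebraMap R (A ⊗[R] A) (q i j) := by
      simp only [Algebra.algebraMap_eq_smul_one, TensorProduct.tmul_smul, TensorProduct.smul_tmul', smul_smul,
        Algebra.TensorProduct.one_def, ← TensorProduct.sum_tmul, ← Finset.sum_smul]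
      rw [← hqq i j]
      simp only [mul_comm]
    show Coalgebra.comul (R := R) (c i j + algebraMap R A (q i j)) = ∑ l, (c i l + _) ⊗ₜ[R] (c l j + _)
    simp only [TensorProduct.add_tmul, TensorProduct.tmul_add, Finset.sum_add_distrib, e1, e2, e3, add_zero,
      zero_add, map_add, Bialgebra.comul_algebraMap]
    rw [show Coalgebra.comul (R := R) (c i j) = ∑ l, c i l ⊗ₜ[R] c l j from comul_coef φ e hφ i j]
  have hcounit : ∀ i j, Coalgebra.counit (R := R) (a i j) = if i = j then 1 else 0 := fun i j => by
    show Coalgebra.counit (R := R) (c i j + algebraMap R A (q i j)) = _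
    rw [map_add, Bialgebra.counit_algebraMap, show Coalgebra.counit (R := R) (c i j) = φ i (e j) from
      counit_coef φ e i j]
    simp [q]
  have hinv : (Matrix.of fun i j => HopfAlgebra.antipode R (a i j)) * a = 1 := by
    ext i j
    have h := LinearMap.congr_fun (HopfAlgebra.mul_antipode_rTensor_comul (R := R) (A := A)) (a i j)
    rw [LinearMap.comp_apply, LinearMap.comp_apply, hcomul, map_sum, map_sum] at h
    simp only [LinearMap.rTensor_tmul, LinearMap.mul'_apply, LinearMap.comp_apply, hcounit,
      Algebra.linearMap_apply] at h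
    rw [Matrix.mul_apply]
    refine h.trans ?_
    rw [Matrix.one_apply]
    split_ifs <;> simp
  refine ⟨d, a, hcomul, hcounit, (Matrix.of fun i j => HopfAlgebra.antipode R (a i j)).det,
    by rw [← Matrix.det_mul, hinv, Matrix.det_one], ?_⟩
  rw [eq_top_iff, ← hs, Algebra.adjoin_le_iff]
  intro x hx
  obtain ⟨z, hz⟩ := hπ ⟨x, hsN x hx⟩
  have h1 : Coalgebra.comul (R := R) x =
      N.subtype.rTensor A (π.rTensor A (HopfRep.Comod.coact (k := R) z)) := by
    have h := LinearMap.congr_fun hcomp z
    simp only [LinearMap.comp_apply, hz] at h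
    rw [← h]
    exact (subCoact_spec hN ⟨x, hsN x hx⟩).symm
  have h2 := congrArg (TensorProduct.lid R A) (Coalgebra.rTensor_counit_comul (R := R) x)
  rw [TensorProduct.lid_tmul, one_smul, h1, ← hφ z] at h2
  simp only [map_sum, map_smul, coact_e φ e hφ, LinearMap.rTensor_tmul, TensorProduct.lid_tmul] at h2
  rw [← h2]
  refine sum_mem fun j _ => Subalgebra.smul_mem _ (sum_mem fun i _ => Subalgebra.smul_mem _ ?_ _) _
  rw [show coef φ e i j = a i j - algebraMap R A (q i j) by simp [a, c]]
  exact sub_mem (Algebra.subset_adjoin (Or.inl ⟨(i, j), rfl⟩)) (Subalgebra.algebraMap_mem _ _)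

end HopfGLLib
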